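/-
Two-transitive groups with an involution `t` whose centraliser has constant fixity (helper79).

Counting conjugates of `t` against ordered pairs of points shows that `|C(t)| = n - i` and that
every element interchanging two points is a conjugate of `t`; so all involutions are conjugate and
every two-point stabiliser is abelian and inverted by each element interchanging the two points.
-/
import Cfsg.Agent.EqLemmas
import Mathlib

set_option autoImplicit false
set_option linter.style.haveILetI false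

namespace Cfsg.Agent.ConstFixity

open MulAction

variable {G Ω : Type*} [Group G] [MulAction G Ω] {t : G} {i : ℕ}

variable (G Ω) in
/-- `t` is an involution of a 2-transitive group all of whose non-identity centralising elements fix
exactly `i` points. -/
structure Setting (t : G) (i : ℕ) : Prop where
  two : IsMultiplyPretransitive G Ω 2
  ht : orderOf t = 2
  fix : ∀ g : G, Commute g t → g ≠ 1 → Nat.card {x : Ω // g • x = x} = i

/-- A map whose fibres are the left cosets of a subgroup. -/
theorem card_eq_mul_of_fibres {X : Type*} (S : Subgroup G) (f : G → X)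
    (hf : Function.Surjective f) (h : ∀ g g' : G, f g = f g' ↔ g'⁻¹ * g ∈ S) :
    Nat.card G = Nat.card X * Nat.card S := by
  obtain ⟨s, hs⟩ := hf.hasRightInverse
  rw [← Nat.card_prod]
  refine Nat.card_congr
    { toFun := fun g => (f g, ⟨(s (f g))⁻¹ * g, (h g _).1 (hs _).symm⟩)
      invFun := fun p => s p.1 * p.2
      left_inv := fun g => mul_inv_cancel_left _ _
      right_inv := fun p => ?_ }
  have e : f (s p.1 * p.2) = p.1 := by
    refine (((h _ _).2 ?_).trans (hs p.1))
    rw [inv_mul_cancel_left]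
    exact p.2.2
  ext <;> simp [e]

/-- Conjugation preserves the number of fixed points. -/
theorem card_fix_conj (h g : G) :
    Nat.card {x : Ω // (h * g * h⁻¹) • x = x} = Nat.card {x : Ω // g • x = x} := by
  refine Nat.card_congr
    { toFun := fun x => ⟨h⁻¹ • x.1, ?_⟩
      invFun := fun x => ⟨h • x.1, ?_⟩
      left_inv := fun x => Subtype.ext (smul_inv_smul h x.1)
      right_inv := fun x => Subtype.ext (inv_smul_smul h x.1) }
  · have := x.2
    rw [mul_smul, mul_smul] at this
    rw [← eq_inv_smul_iff] at this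
    exact this
  · rw [mul_smul, mul_smul, inv_smul_smul, x.2]

theorem card_pairs [Finite Ω] :
    Nat.card {p : Ω × Ω // p.1 ≠ p.2} = Nat.card Ω * (Nat.card Ω - 1) := by
  classical
  haveI := Fintype.ofFinite Ω
  rw [Nat.card_eq_fintype_card, Fintype.card_subtype, Nat.card_eq_fintype_card]
  have : (Finset.univ.filter fun p : Ω × Ω => p.1 ≠ p.2) = (Finset.univ : Finset Ω).offDiag := by
    ext p; simp
  rw [this, Finset.offDiag_card, Finset.card_univ, Nat.mul_sub, Nat.mul_one]

theorem exists_pair_map (h2 : IsMultiplyPretransitive G Ω 2) {a b c d : Ω} (hab : a ≠ b)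
    (hcd : c ≠ d) : ∃ g : G, g • a = c ∧ g • b = d :=
  is_two_pretransitive_iff.mp h2 hab hcd

theorem card_group_eq [Finite Ω] (h2 : IsMultiplyPretransitive G Ω 2) {a b : Ω} (hab : a ≠ b) :
    Nat.card G =
      Nat.card Ω * (Nat.card Ω - 1) * Nat.card ↥(stabilizer G a ⊓ stabilizer G b) := by
  rw [← card_pairs]
  refine card_eq_mul_of_fibres _ (fun g => ⟨(g • a, g • b),
    fun e => hab (smul_left_cancel g e)⟩) ?_ ?_
  · rintro ⟨⟨c, d⟩, hcd⟩
    obtain ⟨g, hga, hgb⟩ := exists_pair_map h2 hab hcd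
    exact ⟨g, by simp [hga, hgb]⟩
  · intro g g'
    simp [Subgroup.mem_inf, mul_smul, inv_smul_eq_iff]

theorem card_conj_mul (t : G) :
    Nat.card G = Nat.card {k : G // IsConj t k} *
      Nat.card ↥(Subgroup.centralizer ({t} : Set G)) := by
  refine card_eq_mul_of_fibres _ (fun g => ⟨g * t * g⁻¹, isConj_iff.2 ⟨g, rfl⟩⟩) ?_ ?_
  · rintro ⟨k, hk⟩
    obtain ⟨g, hg⟩ := isConj_iff.1 hk
    exact ⟨g, Subtype.ext hg⟩
  · intro g g'
    rw [Subtype.ext_iff, Subgroup.mem_centralizer_singleton_iff]
    refine ⟨fun e => ?_, fun e => ?_⟩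
    · calc g'⁻¹ * g * t = g'⁻¹ * (g * t * g⁻¹) * g := by group
        _ = g'⁻¹ * (g' * t * g'⁻¹) * g := by rw [show g * t * g⁻¹ = g' * t * g'⁻¹ from e]
        _ = t * (g'⁻¹ * g) := by group
    · calc g * t * g⁻¹ = g' * (g'⁻¹ * g * t) * g⁻¹ := by group
        _ = g' * (t * (g'⁻¹ * g)) * g⁻¹ := by rw [e]
        _ = g' * t * g'⁻¹ := by group

namespace Setting

variable (S : Setting G Ω t i)

include S

theorem mul_self : t * t = 1 := by
  have := pow_orderOf_eq_one t
  rwa [S.ht, pow_two] at this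

theorem ne_one : t ≠ 1 := fun e => by simpa [e] using S.ht

theorem conj_ne_one {k : G} (hk : IsConj t k) : k ≠ 1 := fun e => S.ne_one (by
  subst e
  exact isConj_one_left.1 hk)

theorem conj_mul_self {k : G} (hk : IsConj t k) : k * k = 1 := by
  obtain ⟨h, rfl⟩ := isConj_iff.1 hk
  calc h * t * h⁻¹ * (h * t * h⁻¹) = h * (t * t) * h⁻¹ := by group
    _ = 1 := by rw [S.mul_self, mul_one, mul_inv_cancel]

/-- Elements commuting with a conjugate of `t` fix exactly `i` points. -/
theorem fix_conj {u g : G} (hu : IsConj t u) (hg : Commute g u) (hg1 : g ≠ 1) :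
    Nat.card {x : Ω // g • x = x} = i := by
  obtain ⟨h, rfl⟩ := isConj_iff.1 hu
  have e : g = h * (h⁻¹ * g * h) * h⁻¹ := by group
  rw [e, card_fix_conj]
  refine S.fix _ ?_ ?_
  · show h⁻¹ * g * h * t = t * (h⁻¹ * g * h)
    calc h⁻¹ * g * h * t = h⁻¹ * (g * (h * t * h⁻¹)) * h := by group
      _ = h⁻¹ * ((h * t * h⁻¹) * g) * h := by rw [hg.eq]
      _ = t * (h⁻¹ * g * h) := by group
  · intro h1
    rw [h1] at e
    exact hg1 (by simpa using e)

theorem fix_self {u : G} (hu : IsConj t u) : Nat.card {x : Ω // u • x = x} = i :=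
  S.fix_conj hu (Commute.refl u) (S.conj_ne_one hu)

variable [Finite G] [Finite Ω] [FaithfulSMul G Ω]

theorem lt_card : i < Nat.card Ω := by
  obtain ⟨x, hx⟩ : ∃ x : Ω, t • x ≠ x := by
    by_contra h
    push Not at h
    exact S.ne_one (FaithfulSMul.eq_of_smul_eq_smul (α := Ω) fun y => by rw [h y, one_smul])
  rw [← S.fix_self (IsConj.refl t)]
  haveI := Fintype.ofFinite Ω
  classical
  rw [Nat.card_eq_fintype_card, Nat.card_eq_fintype_card]
  exact Fintype.card_subtype_lt hx

theorem card_moved {u : G} (hu : IsConj t u) :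
    Nat.card {x : Ω // u • x ≠ x} = Nat.card Ω - i := by
  classical
  haveI := Fintype.ofFinite Ω
  rw [← S.fix_self hu]
  simp only [Nat.card_eq_fintype_card]
  exact Fintype.card_subtype_compl _

theorem cent_dvd : Nat.card ↥(Subgroup.centralizer ({t} : Set G)) ∣ Nat.card Ω - i := by
  classical
  haveI := Fintype.ofFinite Ω
  set C := Subgroup.centralizer ({t} : Set G)
  haveI := Fintype.ofFinite C
  have hb := MulAction.sum_card_fixedBy_eq_card_orbits_mul_card_group C Ω
  rw [← Finset.add_sum_erase _ _ (Finset.mem_univ (1 : C))] at hb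
  have h1 : Fintype.card (fixedBy Ω (1 : C)) = Fintype.card Ω :=
    Fintype.card_congr (Equiv.subtypeUnivEquiv fun x => one_smul C x)
  have h2 : ∑ g ∈ (Finset.univ : Finset C).erase 1, Fintype.card (fixedBy Ω g) =
      (Fintype.card C - 1) * i := by
    have : ∀ g ∈ (Finset.univ : Finset C).erase 1, Fintype.card (fixedBy Ω g) = i := by
      intro g hg
      rw [← S.fix (g : G) (Subgroup.mem_centralizer_singleton_iff.1 g.2)
        (fun e => Finset.ne_of_mem_erase hg (Subtype.ext e)), ← Nat.card_eq_fintype_card]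
      exact Nat.card_congr (Equiv.subtypeEquivRight fun x => Iff.rfl)
    rw [Finset.sum_congr rfl this, Finset.sum_const, smul_eq_mul,
      Finset.card_erase_of_mem (Finset.mem_univ _), Finset.card_univ]
  rw [h1, h2] at hb
  have hle : i ≤ Fintype.card Ω := by
    rw [← Nat.card_eq_fintype_card]; exact S.lt_card.le
  rw [Nat.card_eq_fintype_card, Nat.card_eq_fintype_card]
  have hC : 1 ≤ Fintype.card C := Fintype.card_pos
  refine (Nat.dvd_add_left (dvd_mul_right (Fintype.card C) i)).1 ?_
  have : Fintype.card Ω - i + Fintype.card C * i = Fintype.card Ω + (Fintype.card C - 1) * i := by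
    obtain ⟨k, hk⟩ := Nat.exists_eq_add_of_le hC
    rw [hk, Nat.add_sub_cancel_left]
    ring_nf
    omega
  rw [this, hb]
  exact dvd_mul_left _ _

/-- Conjugates of `t` interchanging two given points. -/
theorem card_conj_swaps {a b : Ω} (hab : a ≠ b) :
    Nat.card {k : G // IsConj t k} * (Nat.card Ω - i) =
      Nat.card Ω * (Nat.card Ω - 1) *
        Nat.card {k : {k : G // IsConj t k} // (k : G) • a = b ∧ (k : G) • b = a} := by
  classical
  haveI := Fintype.ofFinite Ω
  haveI := Fintype.ofFinite {k : G // IsConj t k}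
  let e : (Σ k : {k : G // IsConj t k}, {x : Ω // (k : G) • x ≠ x}) ≃
      Σ p : {p : Ω × Ω // p.1 ≠ p.2},
        {k : {k : G // IsConj t k} // (k : G) • p.1.1 = p.1.2 ∧ (k : G) • p.1.2 = p.1.1} :=
    { toFun := fun q => ⟨⟨(q.2.1, (q.1 : G) • q.2.1), Ne.symm q.2.2⟩, ⟨q.1, rfl, by
        rw [smul_smul, S.conj_mul_self q.1.2, one_smul]⟩⟩
      invFun := fun q => ⟨q.2.1, ⟨q.1.1.1, by rw [q.2.2.1]; exact Ne.symm q.1.2⟩⟩
      left_inv := fun q => rfl
      right_inv := by
        rintro ⟨⟨⟨x, y⟩, hxy⟩, ⟨k, h1, h2⟩⟩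
        simp only at h1
        subst h1
        rfl }
  have hh := Nat.card_congr e
  rw [Nat.card_sigma, Nat.card_sigma] at hh
  have hl : ∀ k : {k : G // IsConj t k},
      Nat.card {x : Ω // (k : G) • x ≠ x} = Nat.card Ω - i := fun k => S.card_moved k.2
  have hr : ∀ p : {p : Ω × Ω // p.1 ≠ p.2},
      Nat.card {k : {k : G // IsConj t k} // (k : G) • p.1.1 = p.1.2 ∧ (k : G) • p.1.2 = p.1.1} =
        Nat.card {k : {k : G // IsConj t k} // (k : G) • a = b ∧ (k : G) • b = a} := by
    intro p
    obtain ⟨h, h1, h2⟩ := exists_pair_map S.two p.2 hab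
    have key : ∀ (g : G) (k : G), IsConj t k → IsConj t (g * k * g⁻¹) :=
      fun g k hk => hk.trans (isConj_iff.2 ⟨g, rfl⟩)
    refine Nat.card_congr
      { toFun := fun k => ⟨⟨h * k.1.1 * h⁻¹, key h _ k.1.2⟩, ?_, ?_⟩
        invFun := fun k => ⟨⟨h⁻¹ * k.1.1 * h⁻¹⁻¹, key h⁻¹ _ k.1.2⟩, ?_, ?_⟩
        left_inv := fun k => by ext; simp [mul_assoc]
        right_inv := fun k => by ext; simp [mul_assoc] }
    · simp only [mul_smul]; rw [← h1, inv_smul_smul, k.2.1, h2]
    · simp only [mul_smul]; rw [← h2, inv_smul_smul, k.2.2, h1]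
    · simp only [inv_inv, mul_smul]; rw [h1, k.2.1, ← h2, inv_smul_smul]
    · simp only [inv_inv, mul_smul]; rw [h2, k.2.2, ← h1, inv_smul_smul]
  simp only [hl, hr, Finset.sum_const, smul_eq_mul, Finset.card_univ] at hh
  rw [← Nat.card_eq_fintype_card, ← Nat.card_eq_fintype_card, card_pairs] at hh
  exact hh

omit S in
theorem card_swaps_le (P : G → Prop) {a b : Ω} :
    Nat.card {k : {k : G // P k} // (k : G) • a = b ∧ (k : G) • b = a} ≤
      Nat.card ↥(stabilizer G a ⊓ stabilizer G b) := by
  classical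
  by_cases hne : Nonempty {k : {k : G // P k} // (k : G) • a = b ∧ (k : G) • b = a}
  · obtain ⟨k₀⟩ := hne
    refine Nat.card_le_card_of_injective (fun k => ⟨(k₀.1.1)⁻¹ * k.1.1, ?_⟩) ?_
    · refine Subgroup.mem_inf.2 ⟨?_, ?_⟩ <;>
        simp only [mem_stabilizer_iff, mul_smul, inv_smul_eq_iff]
      · rw [k.2.1, k₀.2.1]
      · rw [k.2.2, k₀.2.2]
    · intro k k' e
      exact Subtype.ext (Subtype.ext (mul_left_cancel (congrArg Subtype.val e)))
  · rw [not_nonempty_iff] at hne
    simp

theorem counting {a b : Ω} (hab : a ≠ b) :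
    Nat.card ↥(Subgroup.centralizer ({t} : Set G)) = Nat.card Ω - i ∧
      Nat.card {k : {k : G // IsConj t k} // (k : G) • a = b ∧ (k : G) • b = a} =
        Nat.card ↥(stabilizer G a ⊓ stabilizer G b) := by
  have h1 := S.card_conj_swaps hab
  have h2 := (card_conj_mul t).symm.trans (card_group_eq S.two hab)
  have hP : 0 < Nat.card Ω * (Nat.card Ω - 1) := by
    rw [← card_pairs]
    haveI : Nonempty {p : Ω × Ω // p.1 ≠ p.2} := ⟨⟨(a, b), hab⟩⟩
    exact Nat.card_pos
  have hd : 0 < Nat.card ↥(stabilizer G a ⊓ stabilizer G b) := Nat.card_pos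
  have hlt := S.lt_card
  have hc := Nat.le_of_dvd (by omega) S.cent_dvd
  have hm := card_swaps_le (G := G) (IsConj t) (a := a) (b := b)
  generalize Nat.card {k : G // IsConj t k} = K at h1 h2
  generalize Nat.card {k : {k : G // IsConj t k} // (k : G) • a = b ∧ (k : G) • b = a} = m at h1 hm ⊢
  generalize Nat.card ↥(stabilizer G a ⊓ stabilizer G b) = d at h2 hd hm ⊢
  generalize Nat.card ↥(Subgroup.centralizer ({t} : Set G)) = c at h2 hc ⊢
  generalize Nat.card Ω * (Nat.card Ω - 1) = P at h1 h2 hP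
  have hr0 : 0 < Nat.card Ω - i := by omega
  generalize Nat.card Ω - i = r at h1 hc hr0 ⊢
  have e : m * c = d * r := by
    apply Nat.eq_of_mul_eq_mul_left hP
    calc P * (m * c) = P * m * c := by ring
      _ = K * r * c := by rw [h1]
      _ = K * c * r := by ring
      _ = P * d * r := by rw [h2]
      _ = P * (d * r) := by ring
  have h3 : d * r ≤ d * c := by rw [← e]; exact Nat.mul_le_mul_right _ hm
  have hcr : c = r := le_antisymm hc (Nat.le_of_mul_le_mul_left h3 hd)
  refine ⟨hcr, le_antisymm hm ?_⟩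
  subst hcr
  rcases Nat.eq_zero_or_pos c with h0 | h0
  · exfalso
    omega
  · exact (Nat.eq_of_mul_eq_mul_right h0 e).ge

/-- Every element interchanging two points is a conjugate of `t`. -/
theorem swap_conj {a b : Ω} (hab : a ≠ b) {g : G} (hga : g • a = b) (hgb : g • b = a) :
    IsConj t g := by
  have hm := (S.counting hab).2
  let f : {k : {k : G // IsConj t k} // (k : G) • a = b ∧ (k : G) • b = a} →
      ↥(stabilizer G a ⊓ stabilizer G b) := fun k => ⟨g⁻¹ * k.1.1, by
    refine Subgroup.mem_inf.2 ⟨?_, ?_⟩ <;>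
      simp only [mem_stabilizer_iff, mul_smul, inv_smul_eq_iff]
    · rw [k.2.1, hga]
    · rw [k.2.2, hgb]⟩
  have hf : Function.Injective f := fun k k' e =>
    Subtype.ext (Subtype.ext (mul_left_cancel (congrArg Subtype.val e)))
  haveI := Fintype.ofFinite ↥(stabilizer G a ⊓ stabilizer G b)
  obtain ⟨k, hk⟩ := (hf.bijective_of_nat_card_le hm.ge).2 1
  have : g⁻¹ * k.1.1 = 1 := congrArg Subtype.val hk
  rw [inv_mul_eq_one] at this
  rw [this]
  exact k.1.2

theorem exists_swap {a b : Ω} (hab : a ≠ b) : ∃ g : G, g • a = b ∧ g • b = a :=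
  exists_pair_map S.two hab hab.symm

theorem swap_mul_self {a b : Ω} (hab : a ≠ b) {g : G} (hga : g • a = b) (hgb : g • b = a) :
    g * g = 1 := S.conj_mul_self (S.swap_conj hab hga hgb)

theorem swap_inverts {a b : Ω} (hab : a ≠ b) {g x : G} (hga : g • a = b) (hgb : g • b = a)
    (hxa : x • a = a) (hxb : x • b = b) : g * x * g = x⁻¹ := by
  have h := S.swap_mul_self hab (g := g * x) (by rw [mul_smul, hxa, hga])
    (by rw [mul_smul, hxb, hgb])
  exact eq_inv_of_mul_eq_one_left (by rwa [← mul_assoc] at h)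

/-- Two-point stabilisers are abelian. -/
theorem pair_comm {a b : Ω} (hab : a ≠ b) {x y : G} (hxa : x • a = a) (hxb : x • b = b)
    (hya : y • a = a) (hyb : y • b = b) : x * y = y * x := by
  obtain ⟨g, hga, hgb⟩ := S.exists_swap hab
  have hgg := S.swap_mul_self hab hga hgb
  have hx := S.swap_inverts hab hga hgb hxa hxb
  have hy := S.swap_inverts hab hga hgb hya hyb
  have hxy := S.swap_inverts hab (x := x * y) hga hgb (by rw [mul_smul, hya, hxa])
    (by rw [mul_smul, hyb, hxb])
  rw [mul_inv_rev] at hxy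
  have e : y⁻¹ * x⁻¹ = x⁻¹ * y⁻¹ := by
    rw [← hxy, ← hx, ← hy]
    calc g * (x * y) * g = g * x * 1 * y * g := by group
      _ = g * x * (g * g) * y * g := by rw [hgg]
      _ = g * x * g * (g * y * g) := by group
  rw [← mul_inv_rev, ← mul_inv_rev] at e
  exact inv_injective e

/-- All involutions are conjugate to `t`. -/
theorem invol_conj {u : G} (hu1 : u ≠ 1) (hu : u * u = 1) : IsConj t u := by
  obtain ⟨x, hx⟩ : ∃ x : Ω, u • x ≠ x := by
    by_contra h
    push Not at h
    exact hu1 (FaithfulSMul.eq_of_smul_eq_smul (α := Ω) fun y => by rw [h y, one_smul])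
  exact S.swap_conj (Ne.symm hx) rfl (by rw [smul_smul, hu, one_smul])

end Setting

end Cfsg.Agent.ConstFixity
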