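/-
Two-transitive groups with an involution whose centraliser has constant fixity `i` (helper79):

* `regular_or_three_of_le_one` : if `i ≤ 1`, there is a regular normal subgroup or only the identity
  fixes three points;
* `three_of_two_le` : if `i ≥ 2` then `i = 2` and only the identity fixes three points.
-/
import Cfsg.Agent.Lib.ConstFixity.Swap
import Cfsg.Agent.Lib.Perm.Regular
import Cfsg.Agent.Lib.Solvable.Basic
import Cfsg.Agent.S0205
import Cfsg.Agent.S0225

set_option autoImplicit false
set_option linter.style.haveILetI false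
set_option linter.unusedSectionVars false

namespace Cfsg.Agent.ConstFixity

open MulAction

variable {G Ω : Type*} [Group G] [MulAction G Ω] [Finite G] [Finite Ω] [FaithfulSMul G Ω]
variable {t : G} {i : ℕ}

omit [Finite G] [Finite Ω] [FaithfulSMul G Ω] in
/-- The conclusion about a regular normal subgroup. -/
def HasRegularNormal (G Ω : Type*) [Group G] [MulAction G Ω] : Prop :=
  ∃ R : Subgroup G, R.Normal ∧ (∀ x y : Ω, ∃ r ∈ R, r • x = y) ∧
    ∀ x : Ω, ∀ r ∈ R, r • x = x → r = 1

/-- An inverter maps the fixed point set into itself. -/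
theorem inverter_maps_fix {u j : G} {x : Ω} (hu : u * u = 1) (huj : u * j * u = j⁻¹)
    (hx : j • x = x) : j • (u • x) = u • x := by
  have : j * u = u * j⁻¹ := by
    calc j * u = (u * u) * j * u := by rw [hu, one_mul]
      _ = u * (u * j * u) := by group
      _ = u * j⁻¹ := by rw [huj]
  rw [smul_smul, this, mul_smul, inv_smul_eq_iff.2 hx.symm]

namespace Setting

variable (S : Setting G Ω t i)

include S

/-- If some non-identity element fixes three points and `i ≤ 1`, its centraliser has odd order. -/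
theorem odd_centralizer (hi : i ≤ 1) {j : G} (hj : j ≠ 1) {a b : Ω} (hab : a ≠ b)
    (hja : j • a = a) (hjb : j • b = b) {u : G} (hu1 : u ≠ 1) (hu : u * u = 1) :
    ¬ Commute j u := by
  intro hc
  have h := S.fix_conj (S.invol_conj hu1 hu) hc hj
  have : 2 ≤ Nat.card {x : Ω // j • x = x} := by
    haveI : Nontrivial {x : Ω // j • x = x} :=
      ⟨⟨a, hja⟩, ⟨b, hjb⟩, fun e => hab (congrArg Subtype.val e)⟩
    exact Finite.one_lt_card
  omega

theorem odd_card_fix (hi : i ≤ 1) {j : G} (hj : j ≠ 1) {a b c : Ω} (hab : a ≠ b) (hac : a ≠ c)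
    (hbc : b ≠ c) (hja : j • a = a) (hjb : j • b = b) (hjc : j • c = c) :
    Odd (Nat.card {x : Ω // j • x = x}) := by
  classical
  set W := Subgroup.centralizer ({j} : Set G) with hW
  have hodd : Odd (Nat.card W) := by
    by_contra he
    rw [Nat.not_odd_iff_even, even_iff_two_dvd] at he
    haveI : Fact (Nat.Prime 2) := ⟨Nat.prime_two⟩
    obtain ⟨u, hu⟩ := exists_prime_orderOf_dvd_card' 2 he
    have h2 := pow_orderOf_eq_one u
    rw [hu, pow_two] at h2
    refine S.odd_centralizer hi hj hab hja hjb (u := (u : G))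
      (fun e => ?_) (congrArg Subtype.val h2) (Subgroup.mem_centralizer_singleton_iff.1 u.2).symm
    rw [Subtype.ext (p := fun g => g ∈ W) (a1 := u) (a2 := 1) e, orderOf_one] at hu
    exact absurd hu (by norm_num)
  have horb : orbit W a = {x : Ω | j • x = x} := by
    ext x
    constructor
    · rintro ⟨⟨g, hg⟩, rfl⟩
      show j • (g • a) = g • a
      rw [smul_smul, ← Subgroup.mem_centralizer_singleton_iff.1 hg, mul_smul, hja]
    · intro hx
      by_cases hxa : x = a
      · rw [hxa]; exact mem_orbit_self a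
      obtain ⟨z, hza, hzx, hjz⟩ : ∃ z, z ≠ a ∧ z ≠ x ∧ j • z = z := by
        by_cases h : x = b
        · exact ⟨c, hac.symm, h ▸ hbc.symm, hjc⟩
        · exact ⟨b, hab.symm, Ne.symm h, hjb⟩
      obtain ⟨w, hwa, hwz⟩ := S.exists_swap hza.symm
      obtain ⟨v, hvz, hvx⟩ := S.exists_swap hzx
      have hw := S.swap_inverts hza.symm hwa hwz hja hjz
      have hv := S.swap_inverts hzx hvz hvx hjz hx
      have hw2 := S.swap_mul_self hza.symm hwa hwz
      refine ⟨⟨v * w, ?_⟩, ?_⟩
      · rw [Subgroup.mem_centralizer_singleton_iff]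
        have hvv := S.swap_mul_self hzx hvz hvx
        calc v * w * j = v * (w * j * w) * (w * w)⁻¹ * w := by group
          _ = v * j⁻¹ * w := by rw [hw, hw2]; group
          _ = (v * j * v)⁻¹ * (v * v) * (v * w) := by
            rw [hvv]
            calc v * j⁻¹ * w = v * j⁻¹ * (v⁻¹ * v * w) := by group
              _ = (v * j * v⁻¹)⁻¹ * 1 * (v * w) := by group
              _ = (v * j * v)⁻¹ * 1 * (v * w) := by rw [inv_eq_of_mul_eq_one_right hvv]
          _ = j * (v * w) := by rw [hv, hvv, inv_inv, mul_one]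
      · show (v * w) • a = x
        rw [mul_smul, hwa, hvz]
  have hd : Nat.card {x : Ω // j • x = x} ∣ Nat.card W := by
    rw [show Nat.card {x : Ω // j • x = x} = Nat.card (orbit W a) by rw [horb]; rfl,
      Nat.card_congr (orbitEquivQuotientStabilizer W a)]
    exact Subgroup.index_dvd_card _
  exact hodd.of_dvd_nat hd

/-- An involution inverting such an element fixes a point of its fixed point set. -/
theorem exists_fix_in {u j : G} (hu : u * u = 1) (huj : u * j * u = j⁻¹)
    (hodd : Odd (Nat.card {x : Ω // j • x = x})) : ∃ x : Ω, j • x = x ∧ u • x = x := by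
  classical
  haveI := Fintype.ofFinite Ω
  let f : {x : Ω // j • x = x} → {x : Ω // j • x = x} :=
    fun x => ⟨u • x.1, inverter_maps_fix hu huj x.2⟩
  have hf : Function.Involutive f := fun x => Subtype.ext (by
    show u • u • x.1 = x.1
    rw [smul_smul, hu, one_smul])
  let σ : Equiv.Perm {x : Ω // j • x = x} := hf.toPerm f
  haveI : Fact (Nat.Prime 2) := ⟨Nat.prime_two⟩
  have hσ : σ ^ 2 ^ 1 = 1 := by
    ext x : 1
    rw [pow_one, pow_two, Equiv.Perm.mul_apply, Equiv.Perm.one_apply]
    exact hf x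
  obtain ⟨x, hx⟩ := Equiv.Perm.exists_fixed_point_of_prime (p := 2) (n := 1)
    (by
      rw [← Nat.card_eq_fintype_card]
      exact fun h => (Nat.not_even_iff_odd.2 hodd) (even_iff_two_dvd.2 h)) hσ
  exact ⟨x.1, x.2, congrArg Subtype.val hx⟩

theorem invol_card_eq_of_one (hi : i = 1) {a b : Ω} (hab : a ≠ b) (x : Ω) :
    Nat.card {u : G // IsConj t u ∧ u • x = x} = Nat.card ↥(stabilizer G a ⊓ stabilizer G b) := by
  classical
  haveI := Fintype.ofFinite Ω
  have h1 := S.card_conj_swaps hab
  rw [(S.counting hab).2, hi] at h1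
  have hn : 2 ≤ Nat.card Ω := by
    haveI : Nontrivial Ω := ⟨a, b, hab⟩
    exact Finite.one_lt_card
  have hK : Nat.card {k : G // IsConj t k} =
      Nat.card Ω * Nat.card ↥(stabilizer G a ⊓ stabilizer G b) := by
    apply Nat.eq_of_mul_eq_mul_right (show 0 < Nat.card Ω - 1 by omega)
    rw [h1]; ring
  let e : (Σ y : Ω, {u : G // IsConj t u ∧ u • y = y}) ≃ {k : G // IsConj t k} :=
    Equiv.ofBijective (fun q => ⟨q.2.1, q.2.2.1⟩) (by
      constructor
      · rintro ⟨y, u, hu, hy⟩ ⟨y', u', hu', hy'⟩ e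
        have e' : u = u' := congrArg Subtype.val e
        subst e'
        have h := S.fix_self hu
        rw [hi, Nat.card_eq_one_iff_unique] at h
        haveI := h.1
        have : y = y' := congrArg Subtype.val
          (Subsingleton.elim (⟨y, hy⟩ : {z : Ω // u • z = z}) ⟨y', hy'⟩)
        subst this
        rfl
      · rintro ⟨k, hk⟩
        have h := S.fix_self hk
        rw [hi, Nat.card_eq_one_iff_unique] at h
        obtain ⟨⟨y, hy⟩⟩ := h.2
        exact ⟨⟨y, k, hk, hy⟩, rfl⟩)
  have hh := Nat.card_congr e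
  rw [Nat.card_sigma, hK] at hh
  have hc : ∀ y : Ω, Nat.card {u : G // IsConj t u ∧ u • y = y} =
      Nat.card {u : G // IsConj t u ∧ u • x = x} := by
    intro y
    haveI : IsPretransitive G Ω := isPretransitive_of_is_two_pretransitive (h2 := S.two)
    obtain ⟨h, rfl⟩ := exists_smul_eq G y x
    refine Nat.card_congr
      { toFun := fun u => ⟨h * u.1 * h⁻¹, u.2.1.trans (isConj_iff.2 ⟨h, rfl⟩), by
          rw [mul_smul, mul_smul, inv_smul_smul, u.2.2]⟩
        invFun := fun u => ⟨h⁻¹ * u.1 * h, u.2.1.trans (isConj_iff.2 ⟨h⁻¹, by rw [inv_inv]⟩), by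
          rw [mul_smul, mul_smul, u.2.2, inv_smul_smul]⟩
        left_inv := fun u => Subtype.ext (by simp [mul_assoc])
        right_inv := fun u => Subtype.ext (by simp [mul_assoc]) }
  rw [Finset.sum_congr rfl (fun y _ => hc y), Finset.sum_const, smul_eq_mul, Finset.card_univ,
    ← Nat.card_eq_fintype_card] at hh
  exact Nat.eq_of_mul_eq_mul_left (by omega) hh

/-- If `i = 1` and some non-identity element fixes three points, every involution fixing one of its
fixed points inverts it. -/
theorem inverts_of_one (hi : i = 1) {j : G} (hj : j ≠ 1) {a b c : Ω} (hab : a ≠ b) (hac : a ≠ c)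
    (hbc : b ≠ c) (hja : j • a = a) (hjb : j • b = b) (hjc : j • c = c) {u : G}
    (hu : IsConj t u) {x : Ω} (hjx : j • x = x) (hux : u • x = x) : u * j * u = j⁻¹ := by
  classical
  haveI := Fintype.ofFinite Ω
  haveI := Fintype.ofFinite G
  set F := {x : Ω // j • x = x}
  set d := Nat.card ↥(stabilizer G a ⊓ stabilizer G b)
  have hodd := S.odd_card_fix hi.le hj hab hac hbc hja hjb hjc
  have hd : ∀ p q : Ω, p ≠ q →
      Nat.card ↥(stabilizer G p ⊓ stabilizer G q) = d := by
    intro p q hpq
    have h1 := card_group_eq S.two hpq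
    rw [card_group_eq S.two hab] at h1
    exact (Nat.eq_of_mul_eq_mul_left (by
      rw [← card_pairs]
      haveI : Nonempty {p : Ω × Ω // p.1 ≠ p.2} := ⟨⟨(a, b), hab⟩⟩
      exact Nat.card_pos) h1).symm
  let I := {u : G // IsConj t u ∧ u * j * u = j⁻¹}
  let U := Σ y : F, {u : G // IsConj t u ∧ u • y.1 = y.1}
  -- the fixed point of an inverter
  have hex : ∀ u : I, ∃ y : F, u.1 • y.1 = y.1 := fun u => by
    obtain ⟨y, h1, h2⟩ := S.exists_fix_in (S.conj_mul_self u.2.1) u.2.2 hodd
    exact ⟨⟨y, h1⟩, h2⟩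
  choose φ hφ using hex
  let ι : I → U := fun u => ⟨φ u, u.1, u.2.1, hφ u⟩
  have hι : Function.Injective ι := fun u u' e =>
    Subtype.ext (congrArg (fun q : U => q.2.1) e)
  have huniq : ∀ (u : I) (z : F), u.1 • z.1 = z.1 ↔ z = φ u := fun u z => by
    refine ⟨fun h => ?_, fun h => h ▸ hφ u⟩
    have h1 := S.fix_self u.2.1
    rw [hi, Nat.card_eq_one_iff_unique] at h1
    haveI := h1.1
    have e := Subsingleton.elim (⟨z.1, h⟩ : {w : Ω // u.1 • w = w}) ⟨(φ u).1, hφ u⟩
    exact Subtype.ext (congrArg (fun w => w.1) e :)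
  -- count inverters through the pairs of fixed points they interchange
  let e : (Σ u : I, {z : F // z ≠ φ u}) ≃
      Σ p : {p : F × F // p.1 ≠ p.2}, {g : G // g • p.1.1.1 = p.1.2.1 ∧ g • p.1.2.1 = p.1.1.1} :=
    { toFun := fun q => ⟨⟨(q.2.1, ⟨q.1.1 • q.2.1.1,
          inverter_maps_fix (S.conj_mul_self q.1.2.1) q.1.2.2 q.2.1.2⟩),
          fun h => q.2.2 ((huniq q.1 q.2.1).1 (congrArg Subtype.val h).symm)⟩,
        q.1.1, rfl, by rw [smul_smul, S.conj_mul_self q.1.2.1, one_smul]⟩
      invFun := fun q =>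
        have hne : q.1.1.1.1 ≠ q.1.1.2.1 := fun h => q.1.2 (Subtype.ext h)
        ⟨⟨q.2.1, S.swap_conj hne q.2.2.1 q.2.2.2,
          S.swap_inverts hne q.2.2.1 q.2.2.2 q.1.1.1.2 q.1.1.2.2⟩,
          q.1.1.1, fun h => hne ((by
            have := (huniq _ _).2 h
            rw [q.2.2.1] at this
            exact this.symm))⟩
      left_inv := fun q => rfl
      right_inv := by
        rintro ⟨⟨⟨⟨y, hy⟩, ⟨z, hz⟩⟩, hne⟩, g, h1, h2⟩
        simp only at h1
        subst h1
        rfl }
  have hh := Nat.card_congr e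
  rw [Nat.card_sigma, Nat.card_sigma] at hh
  have hl : ∀ u : I, Nat.card {z : F // z ≠ φ u} = Nat.card F - 1 := fun u => by
    simp only [Nat.card_eq_fintype_card]
    rw [Fintype.card_subtype_compl (fun z => z = φ u)]
    simp
  have hr : ∀ p : {p : F × F // p.1 ≠ p.2},
      Nat.card {g : G // g • p.1.1.1 = p.1.2.1 ∧ g • p.1.2.1 = p.1.1.1} = d := by
    intro p
    have hne : p.1.1.1 ≠ p.1.2.1 := fun h => p.2 (Subtype.ext h)
    rw [← hd _ _ hne, ← (S.counting hne).2]
    exact Nat.card_congr
      { toFun := fun g => ⟨⟨g.1, S.swap_conj hne g.2.1 g.2.2⟩, g.2⟩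
        invFun := fun g => ⟨g.1.1, g.2⟩
        left_inv := fun g => rfl
        right_inv := fun g => rfl }
  simp only [hl, hr, Finset.sum_const, smul_eq_mul, Finset.card_univ] at hh
  rw [← Nat.card_eq_fintype_card, ← Nat.card_eq_fintype_card, card_pairs] at hh
  have hF1 : 0 < Nat.card F - 1 := by
    haveI : Nontrivial F := ⟨⟨a, hja⟩, ⟨b, hjb⟩, fun e => hab (congrArg Subtype.val e)⟩
    have : 1 < Nat.card F := Finite.one_lt_card
    omega
  have hI : Nat.card I = Nat.card F * d := by
    apply Nat.eq_of_mul_eq_mul_right hF1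
    rw [hh]; ring
  have hU : Nat.card U = Nat.card F * d := by
    rw [Nat.card_sigma, Finset.sum_congr rfl (fun y _ => S.invol_card_eq_of_one hi hab y.1),
      Finset.sum_const, smul_eq_mul, Finset.card_univ, ← Nat.card_eq_fintype_card]
  obtain ⟨u', hu'⟩ := (hι.bijective_of_nat_card_le (hI.trans hU.symm).ge).2
    ⟨⟨x, hjx⟩, u, hu, hux⟩
  have : u'.1 = u := congrArg (fun q : U => q.2.1) hu'
  rw [← this]
  exact u'.2.2

/-- For `i ≤ 1`, either there is a regular normal subgroup or only `1` fixes three points. -/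
theorem regular_or_three_of_le_one (hi : i ≤ 1) :
    HasRegularNormal G Ω ∨ ∀ g : G, ∀ a b c : Ω, a ≠ b → b ≠ c → a ≠ c →
      g • a = a → g • b = b → g • c = c → g = 1 := by
  classical
  by_cases h3 : ∀ g : G, ∀ a b c : Ω, a ≠ b → b ≠ c → a ≠ c →
      g • a = a → g • b = b → g • c = c → g = 1
  · exact Or.inr h3
  left
  push Not at h3
  obtain ⟨j, a, b, c, hab, hbc, hac, hja, hjb, hjc, hj⟩ := h3
  have hodd := S.odd_card_fix hi hj hab hac hbc hja hjb hjc
  obtain ⟨v, hva, hvb⟩ := S.exists_swap hab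
  have hvj := S.swap_inverts hab hva hvb hja hjb
  have hvv := S.swap_mul_self hab hva hvb
  obtain ⟨x₀, hx₀, hvx₀⟩ := S.exists_fix_in hvv hvj hodd
  have hi1 : i = 1 := by
    have h := S.fix_self (S.swap_conj hab hva hvb)
    haveI : Nonempty {x : Ω // v • x = x} := ⟨⟨x₀, hvx₀⟩⟩
    have h' : 0 < Nat.card {x : Ω // v • x = x} := Nat.card_pos
    omega
  have hG2 : IsPretransitive G Ω := isPretransitive_of_is_two_pretransitive (h2 := S.two)
  -- no Klein four subgroup
  have hrank : ∀ E : Subgroup G, ¬ IsKleinFour E := by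
    intro E hE
    haveI := hE
    obtain ⟨u, hu⟩ : ∃ u : E, u ≠ 1 := by
      haveI : Nontrivial E := Finite.one_lt_card_iff_nontrivial.1 (by rw [hE.card_four]; norm_num)
      exact exists_ne 1
    obtain ⟨s, hs1, hsu⟩ : ∃ s : E, s ≠ 1 ∧ s ≠ u := by
      by_contra h
      push Not at h
      have : Nat.card E ≤ Nat.card ({1, u} : Set E) :=
        Nat.card_le_card_of_injective (fun s => ⟨s, by
          by_cases hs : s = 1
          · exact Or.inl hs
          · exact Or.inr (h s hs)⟩) (fun s s' e => congrArg Subtype.val e)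
      rw [hE.card_four, Nat.card_coe_set_eq, Set.ncard_pair (Ne.symm hu)] at this
      omega
    have hsq : ∀ z : E, (z : G) * z = 1 := fun z =>
      congrArg Subtype.val (IsKleinFour.mul_self z)
    have hinv : ∀ z : E, z ≠ 1 → IsConj t (z : G) := fun z hz =>
      S.invol_conj (fun e => hz (Subtype.ext e)) (hsq z)
    have hcomm : Commute (u : G) s := by
      show (u : G) * s = s * u
      calc (u : G) * s = u * s * ((s * u : E) : G) * ((s * u : E) : G) := by
            rw [mul_assoc ((u : G) * s), hsq, mul_one]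
        _ = u * (s * s) * u * (s * u) := by push_cast; group
        _ = s * u := by rw [hsq, mul_one, hsq, one_mul]
    have hfu := S.fix_self (hinv u hu)
    rw [hi1, Nat.card_eq_one_iff_unique] at hfu
    obtain ⟨⟨x, hx⟩⟩ := hfu.2
    haveI := hfu.1
    have hsx : (s : G) • x = x := congrArg Subtype.val (Subsingleton.elim
      (⟨(s : G) • x, by rw [smul_smul, hcomm.eq, mul_smul, hx]⟩ : {z : Ω // (u : G) • z = z})
      ⟨x, hx⟩)
    obtain ⟨h, hh⟩ := exists_smul_eq G x a
    have key : ∀ z : E, z ≠ 1 → (z : G) • x = x →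
        (h * z * h⁻¹) * j * (h * z * h⁻¹) = j⁻¹ := fun z hz hzx =>
      S.inverts_of_one hi1 hj hab hac hbc hja hjb hjc
        ((hinv z hz).trans (isConj_iff.2 ⟨h, rfl⟩)) hja
        (by rw [← hh, mul_smul, mul_smul, inv_smul_smul, hzx])
    have ku := key u hu hx
    have ks := key s hs1 hsx
    have hsq' : ∀ z : E, (h * z * h⁻¹) * (h * z * h⁻¹) = 1 := fun z => by
      rw [show h * (z : G) * h⁻¹ * (h * z * h⁻¹) = h * ((z : G) * z) * h⁻¹ by group, hsq, mul_one,
        mul_inv_cancel]
    refine S.odd_centralizer hi hj hab hja hjb (u := h * ((u * s : E) : G) * h⁻¹) (fun e => ?_)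
      (hsq' _) ?_
    · have h1 : u * s = 1 := Subtype.ext (by simpa [mul_inv_eq_one, mul_eq_left] using e)
      exact hsu (mul_left_cancel (h1.trans (IsKleinFour.mul_self u).symm))
    · have e : h * ((u * s : E) : G) * h⁻¹ = (h * u * h⁻¹) * (h * s * h⁻¹) := by
        push_cast; group
      rw [e]
      set U := h * (u : G) * h⁻¹
      set V := h * (s : G) * h⁻¹
      show j * (U * V) = U * V * j
      have hU : U⁻¹ = U := inv_eq_of_mul_eq_one_right (hsq' u)
      calc j * (U * V) = (U * j * U)⁻¹ * (U * V) := by rw [ku, inv_inv]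
        _ = U⁻¹ * j⁻¹ * V := by group
        _ = U * (V * j * V) * V := by rw [hU, ks]
        _ = U * V * j * (V * V) := by group
        _ = U * V * j := by rw [hsq' s, mul_one]
  have heven : Even (Nat.card G) := by
    rw [even_iff_two_dvd, ← S.ht]
    exact orderOf_dvd_natCard t
  obtain ⟨z, hz, N, hN, hNodd, hNc⟩ := S0225.result heven hrank
  have hz1 : z ≠ 1 := fun e => by simp [e] at hz
  have hNbot : N ≠ ⊥ := by
    rintro rfl
    apply hz1
    have hzz : z * z = 1 := by
      have := pow_orderOf_eq_one z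
      rwa [hz, pow_two] at this
    have hfz := S.fix_self (S.invol_conj hz1 hzz)
    rw [hi1, Nat.card_eq_one_iff_unique] at hfz
    obtain ⟨⟨x, hx⟩⟩ := hfz.2
    refine FaithfulSMul.eq_of_smul_eq_smul (α := Ω) fun y => ?_
    obtain ⟨g, rfl⟩ := exists_smul_eq G x y
    have hzg : z * g = g * z := by
      have := hNc g
      rw [Subgroup.mem_bot] at this
      calc z * g = (z * g * z⁻¹ * g⁻¹) * (g * z) := by group
        _ = g * z := by rw [this, one_mul]
    rw [one_smul, smul_smul, hzg, mul_smul, hx]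
  haveI := hN
  haveI : Group.IsSolvable N := S0205.result hNodd
  obtain ⟨p, -, M, hMn, hM0, -, hMc, -, -, -⟩ := Solvable.exists_minimal_normal_pGroup hNbot
  haveI := isPreprimitive_of_is_two_pretransitive S.two
  have hMt : IsPretransitive M Ω := Perm.isPretransitive_of_normal_ne_bot hM0
  refine ⟨M, hMn, fun x y => ?_, fun x r hr hrx => ?_⟩
  · obtain ⟨m, hm⟩ := exists_smul_eq M x y
    exact ⟨m, m.2, hm⟩
  · have hs := Perm.stabilizer_eq_bot_of_isMulCommutative hMt hMc x
    have : (⟨r, hr⟩ : M) ∈ stabilizer M x := hrx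
    rw [hs, Subgroup.mem_bot] at this
    exact congrArg Subtype.val this

/-- Every two-point stabiliser of two fixed points of `t` centralises `t`. -/
theorem pair_commute {a b : Ω} (hab : a ≠ b) (hta : t • a = a) (htb : t • b = b) {x : G}
    (hxa : x • a = a) (hxb : x • b = b) : Commute x t :=
  S.pair_comm hab hxa hxb hta htb

/-- Elements of `C(t)` of order above two fix exactly the fixed points of `t`. -/
theorem fix_eq_of_sq_ne_one {g : G} (hg : Commute g t) (hgg : g * g ≠ 1) {x : Ω}
    (hx : t • x = x) : g • x = x := by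
  classical
  haveI := Fintype.ofFinite Ω
  have hgt : g * t * (g * t) = g * g := by
    calc g * t * (g * t) = g * (t * g) * t := by group
      _ = g * (g * t) * t := by rw [hg.eq]
      _ = g * g * (t * t) := by group
      _ = g * g := by rw [S.mul_self, mul_one]
  have hg1 : g ≠ 1 := fun e => hgg (by rw [e, one_mul])
  have hgt1 : g * t ≠ 1 := fun e => hgg (by rw [← hgt, e, one_mul])
  have key : ∀ k : G, Commute k t → k ≠ 1 → k * k = g * g → ∀ y : Ω, (g * g) • y = y → k • y = y := by
    intro k hk hk1 hkk y hy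
    let f : {z : Ω // k • z = z} → {z : Ω // (g * g) • z = z} :=
      fun z => ⟨z.1, by rw [← hkk, mul_smul, z.2, z.2]⟩
    have hf : Function.Injective f := fun z z' e => Subtype.ext (congrArg (fun w => w.1) e :)
    obtain ⟨z, hz⟩ := (hf.bijective_of_nat_card_le (by
      rw [S.fix _ (hg.mul_left hg) hgg, S.fix k hk hk1])).2 ⟨y, hy⟩
    have : z.1 = y := congrArg Subtype.val hz
    rw [← this]
    exact z.2
  -- fixed points of `g` are fixed by `t`
  let f : {z : Ω // g • z = z} → {z : Ω // t • z = z} := fun z => ⟨z.1, by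
    have h2 := key (g * t) (hg.mul_left (Commute.refl t)) hgt1 hgt z.1
      (by rw [mul_smul, z.2, z.2])
    rw [mul_smul] at h2
    exact smul_left_cancel g (h2.trans z.2.symm)⟩
  have hf : Function.Injective f := fun z z' e => Subtype.ext (congrArg (fun w => w.1) e :)
  obtain ⟨z, hz⟩ := (hf.bijective_of_nat_card_le (by
    rw [S.fix g hg hg1, S.fix_self (IsConj.refl t)])).2 ⟨x, hx⟩
  have : z.1 = x := congrArg Subtype.val hz
  rw [← this]
  exact z.2

theorem le_two (hi : 2 ≤ i) : i ≤ 2 := by
  classical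
  haveI := Fintype.ofFinite Ω
  by_contra hi3
  obtain ⟨a, b, c, hta, htb, htc, hab, hac, hbc⟩ :
      ∃ a b c : Ω, t • a = a ∧ t • b = b ∧ t • c = c ∧ a ≠ b ∧ a ≠ c ∧ b ≠ c := by
    have h := S.fix_self (IsConj.refl t)
    rw [Nat.card_eq_fintype_card, Fintype.card_subtype] at h
    obtain ⟨a, b, c, ha, hb, hc, h1, h2, h3⟩ := (Finset.two_lt_card_iff.1 (by omega :
      2 < (Finset.univ.filter fun x : Ω => t • x = x).card))
    exact ⟨a, b, c, (Finset.mem_filter.1 ha).2, (Finset.mem_filter.1 hb).2,
      (Finset.mem_filter.1 hc).2, h1, h2, h3⟩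
  set C := Subgroup.centralizer ({t} : Set G) with hC
  have memC : ∀ {g : G}, g ∈ C ↔ Commute g t := fun {g} => Subgroup.mem_centralizer_singleton_iff
  have hswC : ∀ {p q : Ω}, p ≠ q → t • p = p → t • q = q → ∀ {g : G}, g • p = q → g • q = p →
      Commute g t := by
    intro p q hpq hp hq g h1 h2
    have h := S.swap_inverts hpq h1 h2 hp hq
    rw [inv_eq_of_mul_eq_one_right S.mul_self] at h
    show g * t = t * g
    calc g * t = g * t * (g * g) := by rw [S.swap_mul_self hpq h1 h2, mul_one]
      _ = g * t * g * g := by group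
      _ = t * g := by rw [h]
  have hsq : ∀ {g : G}, Commute g t → ∀ {x : Ω}, t • x = x → g • g • x = x := by
    intro g hg x hx
    by_cases hgg : g * g = 1
    · rw [smul_smul, hgg, one_smul]
    · rw [S.fix_eq_of_sq_ne_one hg hgg hx, S.fix_eq_of_sq_ne_one hg hgg hx]
  -- elements of `C(t)` fixing `a` fix every fixed point of `t`
  have hstab : ∀ {g : G}, Commute g t → g • a = a → ∀ x : Ω, t • x = x → g • x = x := by
    intro g hg hga x hx
    by_cases hxa : x = a
    · rw [hxa, hga]
    obtain ⟨h, h1, h2⟩ := S.exists_swap (Ne.symm hxa)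
    have hh := hswC (Ne.symm hxa) hta hx h1 h2
    have e1 : g • h • a = h • g • a := by
      have hga' : t • (g • a) = g • a := by rw [hga, hta]
      have e := hsq (hg.mul_left hh) hta
      rw [mul_smul, mul_smul] at e
      have e' : g • h • a = h⁻¹ • g⁻¹ • a := by
        rw [eq_inv_smul_iff, eq_inv_smul_iff]
        exact e
      rw [e', inv_smul_eq_iff.2 hga.symm, hga, inv_smul_eq_iff, hsq hh hta]
    rw [hga, h1] at e1
    exact e1
  -- two-point stabilisers of the fixed points of `t`
  have hD : ∀ {g : G}, g • a = a → g • b = b → ∀ x : Ω, t • x = x → g • x = x :=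
    fun {g} h1 h2 => hstab (S.pair_commute hab hta htb h1 h2) h1
  obtain ⟨v, hva, hvb⟩ := S.exists_swap hab
  obtain ⟨w, hwa, hwc⟩ := S.exists_swap hac
  have hvC := hswC hab hta htb hva hvb
  have hwC := hswC hac hta htc hwa hwc
  have hvv := S.swap_mul_self hab hva hvb
  have hww := S.swap_mul_self hac hwa hwc
  have hvw : v * w * (v * w) = 1 := by
    by_contra h
    have h1 := S.fix_eq_of_sq_ne_one (hvC.mul_left hwC) h hta
    rw [mul_smul, hwa] at h1
    have : c = b := by
      have := congrArg (v • ·) h1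
      simp only [smul_smul] at this
      rw [hvv, one_smul, hva] at this
      exact this
    exact hbc this.symm
  have hy : (v * w) • a ≠ a := by
    intro h
    rw [mul_smul, hwa] at h
    exact hbc ((smul_left_cancel v (h.trans hvb.symm)).symm)
  have hyfix : t • ((v * w) • a) = (v * w) • a := by
    rw [smul_smul, ← (hvC.mul_left hwC).eq, mul_smul, hta]
  have hDsq : ∀ {x : G}, x • a = a → x • b = b → x * x = 1 := by
    intro x hxa hxb
    have hx := hD hxa hxb
    have h1 := S.swap_inverts hab hva hvb hxa hxb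
    have h2 := S.swap_inverts hac hwa hwc hxa (hx c htc)
    have h3 := S.swap_inverts (Ne.symm hy) rfl (by rw [smul_smul, hvw, one_smul]) hxa
      (hx _ hyfix)
    have e : v * w * x * (v * w) = x := by
      have hwv : v * w = w * v := by
        calc v * w = (v * w)⁻¹ := (inv_eq_of_mul_eq_one_right hvw).symm
          _ = w⁻¹ * v⁻¹ := mul_inv_rev v w
          _ = w * v := by
            rw [inv_eq_of_mul_eq_one_right hvv, inv_eq_of_mul_eq_one_right hww]
      calc v * w * x * (v * w) = v * w * x * (w * v) := by rw [hwv]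
        _ = v * (w * x * w) * v := by group
        _ = v * x⁻¹ * v := by rw [h2]
        _ = (v * x * v⁻¹)⁻¹ * (v * v) := by group
        _ = (v * x * v)⁻¹ := by rw [hvv, mul_one, inv_eq_of_mul_eq_one_right hvv]
        _ = x := by rw [h1, inv_inv]
    rw [e] at h3
    calc x * x = x * x⁻¹ := by rw [← h3]
      _ = 1 := mul_inv_cancel x
  have hexp : ∀ {g : G}, Commute g t → g * g = 1 := by
    intro g hg
    by_contra h
    exact h (hDsq (S.fix_eq_of_sq_ne_one hg h hta) (S.fix_eq_of_sq_ne_one hg h htb))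
  have hCab : ∀ {g h : G}, Commute g t → Commute h t → g * h = h * g := by
    intro g h hg hh
    calc g * h = (g * h)⁻¹ := (inv_eq_of_mul_eq_one_right (hexp (hg.mul_left hh))).symm
      _ = h⁻¹ * g⁻¹ := mul_inv_rev g h
      _ = h * g := by
        rw [inv_eq_of_mul_eq_one_right (hexp hg), inv_eq_of_mul_eq_one_right (hexp hh)]
  -- `|C(t)| = i d`
  set d := Nat.card ↥(stabilizer G a ⊓ stabilizer G b) with hd
  have horb : orbit C a = {x : Ω | t • x = x} := by
    ext x
    constructor
    · rintro ⟨⟨g, hg⟩, rfl⟩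
      show t • g • a = g • a
      rw [smul_smul, ← (memC.1 hg).eq, mul_smul, hta]
    · intro hx
      by_cases hxa : x = a
      · rw [hxa]; exact mem_orbit_self a
      obtain ⟨g, h1, h2⟩ := S.exists_swap (Ne.symm hxa)
      exact ⟨⟨g, memC.2 (hswC (Ne.symm hxa) hta hx h1 h2)⟩, h1⟩
  have hstC : Nat.card (stabilizer C a) = d :=
    Nat.card_congr
      { toFun := fun g => ⟨g.1.1, g.2, hstab (memC.1 g.1.2) g.2 b htb⟩
        invFun := fun g => ⟨⟨g.1, memC.2 (S.pair_commute hab hta htb g.2.1 g.2.2)⟩, g.2.1⟩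
        left_inv := fun g => rfl
        right_inv := fun g => rfl }
  have hcard : Nat.card C = i * d := by
    rw [← Subgroup.index_mul_card (stabilizer C a), hstC]
    congr 1
    rw [Subgroup.index, ← Nat.card_congr (orbitEquivQuotientStabilizer C a), horb]
    exact S.fix_self (IsConj.refl t)
  have hd2 : 2 ≤ d := by
    haveI : Nontrivial ↥(stabilizer G a ⊓ stabilizer G b) :=
      ⟨⟨t, hta, htb⟩, 1, fun e => S.ne_one (congrArg Subtype.val e)⟩
    exact Finite.one_lt_card
  -- the non-identity elements of `C(t)` are conjugate under its normaliser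
  have hcle : ∀ u : G, Commute u t → IsConj t u →
      Subgroup.centralizer ({u} : Set G) = C := by
    intro u hu hc
    have hle : C ≤ Subgroup.centralizer ({u} : Set G) := fun g hg =>
      Subgroup.mem_centralizer_singleton_iff.2 (hCab (memC.1 hg) hu)
    refine (Subgroup.eq_of_le_of_card_ge hle ?_).symm
    have h := card_conj_mul (G := G) u
    have e : Nat.card {k : G // IsConj u k} = Nat.card {k : G // IsConj t k} :=
      Nat.card_congr (Equiv.subtypeEquivRight fun k =>
        ⟨fun h => hc.trans h, fun h => hc.symm.trans h⟩)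
    rw [e, card_conj_mul t] at h
    haveI : Nonempty {k : G // IsConj t k} := ⟨⟨t, IsConj.refl t⟩⟩
    exact (Nat.eq_of_mul_eq_mul_left Nat.card_pos h).ge
  let N : Subgroup (ConjAct G) :=
    (Subgroup.normalizer (C : Set G)).comap (ConjAct.ofConjAct (G := G)).toMonoidHom
  have horbN : orbit N t = {u : G | Commute u t ∧ u ≠ 1} := by
    ext u
    constructor
    · rintro ⟨⟨g, hg⟩, rfl⟩
      show Commute (g • t) t ∧ g • t ≠ 1
      rw [ConjAct.smul_def]
      refine ⟨memC.1 ((Subgroup.mem_normalizer_iff.1 hg t).1 (memC.2 (Commute.refl t))), ?_⟩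
      exact fun e => S.ne_one (by simpa [mul_inv_eq_one, mul_eq_left] using e)
    · rintro ⟨hu, hu1⟩
      have hc := S.invol_conj hu1 (hexp hu)
      obtain ⟨g, hg⟩ := isConj_iff.1 hc
      refine ⟨⟨ConjAct.toConjAct g, ?_⟩, ?_⟩
      · show g ∈ Subgroup.normalizer (C : Set G)
        rw [Subgroup.mem_normalizer_iff]
        intro x
        have key : g * x * g⁻¹ ∈ Subgroup.centralizer ({u} : Set G) ↔ x ∈ C := by
          rw [Subgroup.mem_centralizer_singleton_iff, memC, ← hg]
          show _ ↔ x * t = t * x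
          constructor
          · intro e
            calc x * t = g⁻¹ * (g * x * g⁻¹ * (g * t * g⁻¹)) * g := by group
              _ = g⁻¹ * (g * t * g⁻¹ * (g * x * g⁻¹)) * g := by rw [e]
              _ = t * x := by group
          · intro e
            calc g * x * g⁻¹ * (g * t * g⁻¹) = g * (x * t) * g⁻¹ := by group
              _ = g * (t * x) * g⁻¹ := by rw [e]
              _ = g * t * g⁻¹ * (g * x * g⁻¹) := by group
        rw [hcle u hu hc] at key
        exact key.symm
      · show ConjAct.toConjAct g • t = u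
        rw [ConjAct.toConjAct_smul, hg]
  have hdvd : i * d - 1 ∣ Nat.card G := by
    have h1 : Nat.card (orbit N t) ∣ Nat.card N := by
      rw [Nat.card_congr (orbitEquivQuotientStabilizer N t)]
      exact Subgroup.index_dvd_card _
    have h2 : Nat.card (orbit N t) = i * d - 1 := by
      rw [horbN, ← hcard]
      haveI := Fintype.ofFinite C
      have hc1 : Nat.card {x : C // x ≠ 1} = Nat.card C - 1 := by
        simp only [Nat.card_eq_fintype_card]
        rw [Fintype.card_subtype_compl (fun x : C => x = 1)]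
        simp
      rw [← hc1]
      exact Nat.card_congr
        { toFun := fun u => ⟨⟨u.1, memC.2 u.2.1⟩, fun e => u.2.2 (congrArg Subtype.val e)⟩
          invFun := fun u => ⟨u.1.1, memC.1 u.1.2, fun e => u.2 (Subtype.ext e)⟩
          left_inv := fun u => rfl
          right_inv := fun u => rfl }
    rw [h2] at h1
    exact h1.trans (Subgroup.card_subgroup_dvd_card N)
  have hn : Nat.card Ω = i * d + i := by
    have := (S.counting hab).1
    rw [hcard] at this
    have := S.lt_card
    omega
  rw [card_group_eq S.two hab, hn] at hdvd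
  -- arithmetic
  obtain ⟨L, hL⟩ : ∃ L, i * d = L + 1 := ⟨i * d - 1, by
    have : 0 < i * d := Nat.mul_pos (by omega) (by omega)
    omega⟩
  rw [← hd, hL, Nat.add_sub_cancel] at hdvd
  have e : L + 1 + i - 1 = L + i := by omega
  rw [e] at hdvd
  have hLi : Nat.Coprime L i := by
    have h1 : Nat.Coprime L (L + 1) := by simp
    rw [← hL] at h1
    exact h1.coprime_mul_right_right
  have h1 : (L + 1 + i) * (L + i) * d = L * ((L + 1 + 2 * i) * d) + i * ((i + 1) * d) := by ring
  rw [h1, Nat.dvd_add_right (dvd_mul_right L _)] at hdvd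
  have h2 := hLi.dvd_of_dvd_mul_left hdvd
  have h3 : (i + 1) * d = L + (d + 1) := by rw [Nat.add_mul, one_mul, hL]; omega
  rw [h3, Nat.dvd_add_right (dvd_refl L)] at h2
  have h4 := Nat.le_of_dvd (by omega) h2
  have h5 : 3 * d ≤ i * d := Nat.mul_le_mul_right d (by omega)
  omega

/-- If `i ≥ 2`, then `i = 2` and only the identity fixes three points. -/
theorem three_of_two_le (hi : 2 ≤ i) : ∀ g : G, ∀ a b c : Ω, a ≠ b → b ≠ c → a ≠ c →
    g • a = a → g • b = b → g • c = c → g = 1 := by
  classical
  haveI := Fintype.ofFinite Ω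
  have hi2 := S.le_two hi
  intro g a b c hab hbc hac hga hgb hgc
  by_contra hg
  have hf := S.fix_self (IsConj.refl t)
  obtain ⟨⟨p, hp⟩, ⟨q, hq⟩, hpq⟩ : Nontrivial {x : Ω // t • x = x} :=
    Finite.one_lt_card_iff_nontrivial.1 (by omega)
  have hpq' : p ≠ q := fun e => hpq (Subtype.ext e)
  obtain ⟨h, h1, h2⟩ := exists_pair_map S.two hab hpq'
  have e1 : ∀ {x : Ω}, g • x = x → (h * g * h⁻¹) • (h • x) = h • x := fun {x} hx => by
    rw [mul_smul, mul_smul, inv_smul_smul, hx]
  have hc := S.pair_commute hpq' hp hq (x := h * g * h⁻¹) (h1 ▸ e1 hga) (h2 ▸ e1 hgb)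
  have hne : h * g * h⁻¹ ≠ 1 := fun e => hg (by simpa [mul_inv_eq_one, mul_eq_left] using e)
  have hcard := S.fix _ hc hne
  rw [card_fix_conj, Nat.card_eq_fintype_card, Fintype.card_subtype] at hcard
  have : 2 < (Finset.univ.filter fun x : Ω => g • x = x).card :=
    Finset.two_lt_card_iff.2 ⟨a, b, c, Finset.mem_filter.2 ⟨Finset.mem_univ _, hga⟩,
      Finset.mem_filter.2 ⟨Finset.mem_univ _, hgb⟩,
      Finset.mem_filter.2 ⟨Finset.mem_univ _, hgc⟩, hab, hac, hbc⟩
  omega

end Setting

end Cfsg.Agent.ConstFixity
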