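/-
Simple Zassenhaus groups up to isomorphism (helper79): the argument of `S0340`, finishing with
`SuzukiZass.Setup.isoSuzuki`.
-/
import Cfsg.Agent.Lib.SuzukiZass.Main
import Cfsg.Agent.Lib.FrobSystem.SuzukiIdent
import Cfsg.Agent.Lib.Zassenhaus.AbelianKernel
import Cfsg.Agent.S0344
import Cfsg.Agent.S0346

set_option autoImplicit false
set_option linter.style.haveILetI false
open Cfsg

namespace Cfsg.Agent.ConstFixity

/-- A finite simple Zassenhaus group is some `PSL₂(F)` or a Suzuki group. -/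
theorem zassenhaus_iso {G Ω : Type*} [Group G] [Finite G] [MulAction G Ω]
    [Finite Ω] (hZ : Cfsg.IsZassenhausGroup G Ω) [IsSimpleGroup G] :
    (∃ (F : Type) (_ : Field F) (_ : Fintype F), Nonempty (G ≃* Matrix.ProjectiveSpecialLinearGroup (Fin 2) F)) ∨
      Cfsg.Lie.IsoSuzuki G := by
  classical
  haveI := Fintype.ofFinite Ω
  haveI : FaithfulSMul G Ω := hZ.1
  have hn3 := Zassenhaus.three_le_card hZ
  obtain ⟨a⟩ : Nonempty Ω := (Nat.card_pos_iff.1 (by omega : 0 < Nat.card Ω)).1
  obtain ⟨b, hba⟩ := Zassenhaus.exists_ne' hZ a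
  have hab : a ≠ b := hba.symm
  rcases Nat.even_or_odd (Nat.card ↥(MulAction.stabilizer G a ⊓ MulAction.stabilizer G b)) with he | ho
  · obtain ⟨F, iF, iT, -, hiso⟩ := S0344.result hZ hab he
    exact Or.inl ⟨F, iF, iT, hiso⟩
  obtain ⟨H, hHa, hHn, hHcard, hHfix⟩ := Zassenhaus.exists_kernel_subgroup hZ a
  have hcF : Nat.card H + 1 = Fintype.card Ω := by rw [← Nat.card_eq_fintype_card]; omega
  have habel : (∀ u ∈ H, ∀ v ∈ H, u * v = v * u) →
      (∃ (F : Type) (_ : Field F) (_ : Fintype F), Nonempty (G ≃* Matrix.ProjectiveSpecialLinearGroup (Fin 2) F)) := by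
    intro hcomm
    rcases Zassenhaus.abelian_classify hZ hab H hHa hHn hcF hHfix hcomm with ⟨h3, hsharp⟩ | ⟨p, f, K, iK, iF, -, -, -, hiso⟩
    · obtain ⟨k, hk⟩ := ho
      have hcard3 : Nat.card ↥(MulAction.stabilizer G a ⊓ MulAction.stabilizer G b) = Nat.card Ω - 2 := by
        obtain ⟨c, hca, hcb⟩ := Zassenhaus.exists_third hZ hab
        refine le_antisymm (Nat.le_of_dvd (by omega) (Zassenhaus.card_pair_dvd_sub_two hZ hab)) ?_
        haveI := h3
        have hX : Nat.card {y : Ω // y ≠ a ∧ y ≠ b} = Nat.card Ω - 2 := by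
          have : ({a, b} : Set Ω)ᶜ = {y : Ω | y ≠ a ∧ y ≠ b} := by ext y; simp
          change Nat.card {y : Ω | y ≠ a ∧ y ≠ b} = _
          rw [Nat.card_coe_set_eq, ← this, Set.ncard_compl, Set.ncard_pair hab]
        rw [← hX]
        refine Nat.card_le_card_of_surjective
          (fun g : ↥(MulAction.stabilizer G a ⊓ MulAction.stabilizer G b) =>
            (⟨(g : G) • c, fun e => hca (smul_left_cancel (g : G) (e.trans (show (g : G) • a = a from g.2.1).symm)),
              fun e => hcb (smul_left_cancel (g : G) (e.trans (show (g : G) • b = b from g.2.2).symm))⟩ :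
                {y : Ω // y ≠ a ∧ y ≠ b})) ?_
        rintro ⟨y, hya, hyb⟩
        let e1 : Fin 3 ↪ Ω := ⟨![a, b, c], fun i j h => by
          have := hca.symm; have := hcb.symm; have := hya.symm; have := hyb.symm; have := hab.symm
          fin_cases i <;> fin_cases j <;> simp_all⟩
        let e2 : Fin 3 ↪ Ω := ⟨![a, b, y], fun i j h => by
          have := hca.symm; have := hcb.symm; have := hya.symm; have := hyb.symm; have := hab.symm
          fin_cases i <;> fin_cases j <;> simp_all⟩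
        obtain ⟨g, hg⟩ := MulAction.exists_smul_eq G e1 e2
        exact ⟨⟨g, congrArg (fun z : Fin 3 ↪ Ω => z 0) hg, congrArg (fun z : Fin 3 ↪ Ω => z 1) hg⟩,
          Subtype.ext (congrArg (fun z : Fin 3 ↪ Ω => z 2) hg)⟩
      obtain ⟨p, f, hp, hf, hpf⟩ := (isPrimePow_nat_iff _).1 (S0346.result hZ)
      rw [← Nat.card_eq_fintype_card] at hpf
      have hp2 : p = 2 := by
        have h2 : 2 ∣ p ^ f := by rw [hpf]; omega
        exact ((Nat.prime_dvd_prime_iff_eq Nat.prime_two hp).1 (Nat.prime_two.dvd_of_dvd_pow h2)).symm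
      subst hp2
      exact SuzukiZass.sharp_psl2 hf (by omega) h3 hsharp
    · exact ⟨K, iK, iF, hiso⟩
  rcases Zassenhaus.feit_inequality hZ hab (Fintype.card Ω - 1) _ (by omega) rfl ho H hHa hcF hHfix with h | ⟨h2, hna, -⟩
  · refine Or.inl (habel (Zassenhaus.kernel_abelian hZ hab ?_ H hHa hHn hHcard hHfix))
    rw [Nat.card_eq_fintype_card]
    omega
  · obtain ⟨u, v, huv⟩ := hna
    exact Or.inr (SuzukiZass.Setup.isoSuzuki
      ⟨hZ, a, b, hab, H, hHa, hHn, hHcard, hHfix, h2, u, u.2, v, v.2, fun e => huv (Subtype.ext e)⟩)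

end Cfsg.Agent.ConstFixity
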