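/-
Two-transitive groups with an involution whose centraliser has constant fixity (helper79):
`PSL₂(q)`, a Suzuki group, or a regular normal subgroup.
-/
import Cfsg.Agent.Lib.ConstFixity.Cases
import Cfsg.Agent.Lib.ConstFixity.ZassIso
import Cfsg.Agent.Lib.Perm.Zassenhaus
import Cfsg.Agent.Lib.Perm.FrobeniusNormal

set_option autoImplicit false
set_option linter.style.haveILetI false

namespace Cfsg.Agent.ConstFixity

open MulAction

variable {G Ω : Type*} [Group G] [MulAction G Ω] [Finite G] [Finite Ω] [FaithfulSMul G Ω]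
variable {t : G} {i : ℕ}

theorem classify (S : Setting G Ω t i) :
    (∃ (F : Type) (_ : Field F) (_ : Fintype F),
        Nonempty (G ≃* Matrix.ProjectiveSpecialLinearGroup (Fin 2) F)) ∨
      Cfsg.Lie.IsoSuzuki G ∨ HasRegularNormal G Ω := by
  classical
  by_cases hreg : HasRegularNormal G Ω
  · exact Or.inr (Or.inr hreg)
  have hn : 2 ≤ Nat.card Ω := by
    obtain ⟨x, hx⟩ : ∃ x : Ω, t • x ≠ x := by
      by_contra h
      push Not at h
      exact S.ne_one (FaithfulSMul.eq_of_smul_eq_smul (α := Ω) fun y => by rw [h y, one_smul])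
    haveI : Nontrivial Ω := ⟨_, _, hx⟩
    exact Finite.one_lt_card
  have h3 : ∀ g : G, ∀ a b c : Ω, a ≠ b → b ≠ c → a ≠ c →
      g • a = a → g • b = b → g • c = c → g = 1 := by
    rcases le_or_gt i 1 with hi | hi
    · exact (S.regular_or_three_of_le_one hi).resolve_left hreg
    · exact S.three_of_two_le hi
  have h4 : ∃ g : G, g ≠ 1 ∧ ∃ a b : Ω, a ≠ b ∧ g • a = a ∧ g • b = b := by
    by_contra h
    push Not at h
    obtain ⟨p, j, T, -, -, -, hTn, -, -, hTt, hTs, -⟩ :=
      Perm.exists_regular_of_sharply_two_transitive hn S.two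
        (fun g a b hab hga hgb => by
          by_contra hg
          exact h g hg a b hab hga hgb)
    refine hreg ⟨T, hTn, fun x y => ?_, fun x r hr hrx => ?_⟩
    · obtain ⟨m, hm⟩ := exists_smul_eq T x y
      exact ⟨m, m.2, hm⟩
    · have : (⟨r, hr⟩ : T) ∈ stabilizer T x := hrx
      rw [hTs x, Subgroup.mem_bot] at this
      exact congrArg Subtype.val this
  have h5 : ∀ N : Subgroup G, N.Normal → IsPretransitive N Ω → ∃ a : Ω, stabilizer N a ≠ ⊥ := by
    intro N hN hNt
    by_contra h
    push Not at h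
    refine hreg ⟨N, hN, fun x y => ?_, fun x r hr hrx => ?_⟩
    · obtain ⟨m, hm⟩ := exists_smul_eq N x y
      exact ⟨m, m.2, hm⟩
    · have : (⟨r, hr⟩ : N) ∈ stabilizer N x := hrx
      rw [h x, Subgroup.mem_bot] at this
      exact congrArg Subtype.val this
  have hZ : Cfsg.IsZassenhausGroup G Ω := ⟨inferInstance, S.two, h3, h4, h5⟩
  -- all involutions are conjugate and every interchanging element is one, so `G` is simple
  haveI : Nontrivial G := ⟨t, 1, S.ne_one⟩
  haveI : IsSimpleGroup G := by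
    refine ⟨fun N hN => or_iff_not_imp_left.2 fun hN1 => ?_⟩
    haveI := hN
    have hN2 : IsMultiplyPretransitive N Ω 2 := (Perm.zassenhaus_normal hZ hN1).2.1
    rw [eq_top_iff]
    intro g _
    obtain ⟨x, y, hxy⟩ : ∃ x y : Ω, x ≠ y := by
      haveI : Nontrivial Ω := Finite.one_lt_card_iff_nontrivial.1 (by omega)
      exact exists_pair_ne Ω
    -- all elements interchanging two points lie in `N`
    have hswap : ∀ {p q : Ω}, p ≠ q → ∀ {u : G}, u • p = q → u • q = p → u ∈ N := by
      intro p q hpq u hup huq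
      obtain ⟨⟨m, hm⟩, hm1, hm2⟩ := is_two_pretransitive_iff.mp hN2 hpq hpq.symm
      obtain ⟨h, hh⟩ := isConj_iff.1
        ((S.swap_conj hpq (g := m) hm1 hm2).symm.trans (S.swap_conj hpq hup huq))
      rw [← hh]
      exact hN.conj_mem m hm h
    obtain ⟨⟨m, hm⟩, hm1, hm2⟩ :=
      is_two_pretransitive_iff.mp hN2 hxy (fun e => hxy (smul_left_cancel g e))
    obtain ⟨v, hv1, hv2⟩ := S.exists_swap hxy
    have hd1 : (m⁻¹ * g) • x = x := by
      rw [mul_smul, inv_smul_eq_iff]; exact hm1.symm
    have hd2 : (m⁻¹ * g) • y = y := by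
      rw [mul_smul, inv_smul_eq_iff]; exact hm2.symm
    have h := hswap hxy (u := v * (m⁻¹ * g)) (by rw [mul_smul, hd1, hv1])
      (by rw [mul_smul, hd2, hv2])
    have hgm : g = m * (v⁻¹ * (v * (m⁻¹ * g))) := by group
    rw [hgm]
    exact mul_mem hm (mul_mem (inv_mem (hswap hxy hv1 hv2)) h)
  rcases zassenhaus_iso hZ with h | h
  · exact Or.inl h
  · exact Or.inr (Or.inl h)

end Cfsg.Agent.ConstFixity
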